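import Groth.Agent.Lib.DefGlue3.Functor
import Groth.Agent.Lib.DefHull3.Tangent
import Groth.Agent.Lib.CotRigid8.Retraction
import Groth.Agent.Lib.CotT3.Comp
import Mathlib

/-!
# The tangent space of deformations of an affine scheme with finitely many singular points
-/

set_option autoImplicit false
set_option backward.isDefEq.respectTransparency false
set_option linter.style.haveILetI false

universe u

open CategoryTheory CategoryTheory.Limits AlgebraicGeometry TensorProduct

noncomputable section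

namespace Groth.Agent.DefGlue3

open ArtFun DefAff3

/-- `T¹` is finite-dimensional when the singular locus is finite. -/
theorem finite_T1 {k B₀ : Type u} [Field k] [CommRing B₀] [Algebra k B₀] [Algebra.FiniteType k B₀]
    {ι σ : Type u} [Finite ι] [Finite σ] (P : Algebra.Presentation k B₀ ι σ)
    (hfin : (Algebra.smoothLocus k B₀)ᶜ.Finite) : Module.Finite k (_root_.CotT.T1 P B₀) := by
  classical
  haveI : IsNoetherianRing B₀ := Algebra.FiniteType.isNoetherianRing k B₀
  haveI : Algebra.FinitePresentation k B₀ := Algebra.FinitePresentation.of_finiteType.1 inferInstance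
  cases nonempty_fintype σ
  haveI : Module.Finite B₀ (_root_.CotT.L1 P) := Module.Finite.of_basis (_root_.CotT.L1basis P)
  let M := _root_.CotT.T1 P B₀
  haveI : Module.Finite B₀ M := inferInstance
  let Z := (Algebra.smoothLocus k B₀)ᶜ
  have hZ : IsClosed Z := Algebra.isOpen_smoothLocus.isClosed_compl
  let P₀ := Algebra.Presentation.ofFinitePresentation k B₀
  obtain ⟨h⟩ := CotT3.nonempty_presHom P₀ P
  have hann : PrimeSpectrum.vanishingIdeal Z ≤ (Module.annihilator B₀ M).radical := by
    intro τ hτ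
    have hsm : ∀ q : PrimeSpectrum B₀, τ ∉ q.asIdeal → q ∈ Algebra.smoothLocus k B₀ := fun q hq => by
      by_contra hh
      exact hq ((PrimeSpectrum.mem_vanishingIdeal _ _).1 hτ q hh)
    obtain ⟨c, r, hr⟩ := CotRigid8.exists_retraction P₀ τ hsm
    refine ⟨c, Module.mem_annihilator.2 fun v => (CotT3.T1pull_bijective B₀ h).1 ?_⟩
    rw [map_smul, map_zero]
    obtain ⟨φ, hφ⟩ := CotT3.homToT1_surjective P₀ B₀ (h.T1pull B₀ v)
    rw [← hφ, ← map_smul, ← LinearMap.mem_ker, CotT3.ker_homToT1]
    exact ⟨φ ∘ₗ r, LinearMap.ext fun y => by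
      change φ (r _) = τ ^ c • φ y
      rw [hr, map_smul]⟩
  let R := B₀ ⧸ Module.annihilator B₀ M
  haveI : Finite (PrimeSpectrum R) := by
    have hr := range_comap_of_surjective R (Ideal.Quotient.mk (Module.annihilator B₀ M))
      Ideal.Quotient.mk_surjective
    have hsub : Set.range (PrimeSpectrum.comap (Ideal.Quotient.mk (Module.annihilator B₀ M))) ⊆ Z := by
      rw [hr, Ideal.mk_ker, ← PrimeSpectrum.zeroLocus_radical]
      refine (PrimeSpectrum.zeroLocus_anti_mono_ideal hann).trans ?_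
      rw [PrimeSpectrum.zeroLocus_vanishingIdeal_eq_closure, hZ.closure_eq]
    haveI := (hfin.subset hsub).to_subtype
    exact Finite.of_injective_finite_range
      (PrimeSpectrum.comap_injective_of_surjective _ Ideal.Quotient.mk_surjective)
  haveI : IsJacobsonRing R := isJacobsonRing_of_finiteType (A := k)
  haveI : IsNoetherianRing R := Algebra.FiniteType.isNoetherianRing k R
  haveI : Ring.KrullDimLE 0 R :=
    ((PrimeSpectrum.discreteTopology_iff_finite_and_krullDimLE_zero).1 inferInstance).2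
  haveI : IsArtinianRing R := isArtinianRing_iff_krullDimLE_zero.2 inferInstance
  haveI : Module.Finite k R := (Module.finite_iff_isArtinianRing k R).2 inferInstance
  letI : Module R M := Module.IsTorsionBySet.module (Module.isTorsionBySet_annihilator B₀ M)
  haveI : IsScalarTower B₀ R M := Module.IsTorsionBySet.isScalarTower _
  haveI : IsScalarTower k R M := IsScalarTower.of_algebraMap_smul fun c v => by
    rw [IsScalarTower.algebraMap_apply k B₀ R, algebraMap_smul R, algebraMap_smul B₀]
  haveI : Module.Finite R M := Module.Finite.of_restrictScalars_finite B₀ R M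
  exact Module.Finite.trans R M

variable {Λ k : Type u} [CommRing Λ] [Field k] [Algebra Λ k] {X Y : Scheme.{u}}
  {x : X ⟶ Spec (CommRingCat.of k)} {y : Y ⟶ Spec (CommRingCat.of k)}

/-- Deformations along an isomorphism of the closed fibre. -/
def transport (e : X ≅ Y) (he : e.hom ≫ y = x) {A : Art Λ k} (ξ : DefSch X x A) : DefSch Y y A where
  total := ξ.total
  f := ξ.f
  flat := ξ.flat
  i := e.inv ≫ ξ.i
  isPullback := ξ.isPullback.of_iso e (Iso.refl _) (Iso.refl _) (Iso.refl _) (by simp) (by simpa using he.symm)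
    (by simp) (by simp)

theorem over_transport (e : X ≅ Y) (he : e.hom ≫ y = x) {A B : Art Λ k} {φ : A ⟶ B} {ξ : DefSch X x A}
    {η : DefSch X x B} {g : η.total ⟶ ξ.total} (h : Over' φ ξ η g) :
    Over' φ (transport e he ξ) (transport e he η) g :=
  ⟨h.w, by
    show (e.inv ≫ η.i) ≫ g = e.inv ≫ ξ.i
    rw [Category.assoc, h.hi]⟩

section

variable {B₀ : Type u} [CommRing B₀] [Algebra k B₀]

/-- First order deformations do not see the coefficient ring. -/
def toK (ξ : DefSch (Spec (CommRingCat.of B₀)) (str₀ k B₀) (Art.dual Λ k)) :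
    DefSch (Spec (CommRingCat.of B₀)) (str₀ k B₀) (Art.dual k k) :=
  ⟨ξ.total, ξ.f, ξ.flat, ξ.i, ξ.isPullback⟩

/-- Deformations over `k ⊕ kⁿ` do not see the coefficient ring. -/
def toKn {n : ℕ} (ξ : DefSch (Spec (CommRingCat.of B₀)) (str₀ k B₀) (ArtFunLib.tn Λ k n)) :
    DefSch (Spec (CommRingCat.of B₀)) (str₀ k B₀) (ArtFunLib.tn k k n) :=
  ⟨ξ.total, ξ.f, ξ.flat, ξ.i, ξ.isPullback⟩

variable (e : X ≅ Spec (CommRingCat.of B₀)) (he : e.hom ≫ str₀ k B₀ = x)
  {ι σ : Type u} (P : Algebra.Presentation k B₀ ι σ)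

/-- The class in `T¹` of a first order deformation of `X`. -/
def cls (ξ : DefSch X x (Art.dual Λ k)) : _root_.CotT.T1 P B₀ := DefHull3.tcl P (toK (transport e he ξ))

theorem cls_eq_of_iso {ξ η : DefSch X x (Art.dual Λ k)} (u : ξ.Iso η) : cls e he P ξ = cls e he P η := by
  let u' : (toK (transport e he ξ)).Iso (toK (transport e he η)) :=
    ⟨u.iso, u.hom_f, by
      show (e.inv ≫ ξ.i) ≫ u.iso.hom = e.inv ≫ η.i
      rw [Category.assoc, u.i_hom]⟩
  obtain ⟨G, h1, h2⟩ := DefHull3.exists_ringHom_iso (u := u')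
  exact DefHull3.tcl_eq_of_hom P G h1 h2

/-- The class as a function on the tangent space. -/
def tau : (defFunctor (Λ := Λ) X x).obj (Art.dual Λ k) → _root_.CotT.T1 P B₀ :=
  Quotient.lift (cls e he P) fun _ _ ⟨u⟩ => cls_eq_of_iso e he P u

theorem tau_injective : Function.Injective (tau (Λ := Λ) e he P) := by
  intro a b h
  induction a using Quotient.inductionOn with
  | h ξ =>
  induction b using Quotient.inductionOn with
  | h η =>
  obtain ⟨u⟩ := DefHull3.nonempty_iso_of_tcl_eq P h
  refine Quotient.sound ⟨⟨u.iso, u.hom_f, ?_⟩⟩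
  have := u.i_hom
  change (e.inv ≫ ξ.i) ≫ u.iso.hom = e.inv ≫ η.i at this
  rwa [Category.assoc, cancel_epi] at this

theorem tau_baseChange {n : ℕ} (ξ : DefSch X x (ArtFunLib.tn Λ k n)) :
    ∃ v : Fin n → _root_.CotT.T1 P B₀, ∀ L : (Fin n → k) →ₗ[k] k,
      tau e he P ((defFunctor X x).map (ArtFunLib.tnDual L) ξ.cl) =
        ∑ i, algebraMap k B₀ (L (Pi.single i 1)) • v i := by
  obtain ⟨v, hv⟩ := DefHull3.exists_tcl_baseChange P (toKn (transport e he ξ))
  refine ⟨v, fun L => Eq.trans ?_ (hv L)⟩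
  show cls e he P (ξ.baseChange (ArtFunLib.tnDual L)) = _
  let η := ξ.baseChange (ArtFunLib.tnDual (Λ := Λ) L)
  have h := over_transport e he (Over'.bc ξ (ArtFunLib.tnDual (Λ := Λ) L))
  have h' : Over' (ArtFunLib.tnDual (Λ := k) L) (toKn (transport e he ξ)) (toK (transport e he η))
      (pullback.fst ξ.f (Art.specMap (ArtFunLib.tnDual (Λ := Λ) L))) := ⟨h.w, h.hi⟩
  obtain ⟨G, h1, h2⟩ := DefHull3.exists_ringHom_iso (u := h'.nonempty_iso_bc.some)
  exact DefHull3.tcl_eq_of_hom P G h1 h2

/-- The class is linear. -/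
def tauLin [TangentStr (defFunctor (Λ := Λ) X x)] : TangentSpace (defFunctor (Λ := Λ) X x) →ₗ[k] _root_.CotT.T1 P B₀ where
  toFun := fun a => tau e he P a.val
  map_add' a b := by
    obtain ⟨z, hz⟩ := (ArtFunLib.tnProj_bijective (h0 (Λ := Λ) (X := X) (x := x)) heps 2).2 ![a.val, b.val]
    induction z using Quotient.inductionOn with
    | h ξ =>
    obtain ⟨v, hv⟩ := tau_baseChange e he P ξ
    have hadd := (ArtFunLib.evT ξ.cl).map_add (LinearMap.proj (0 : Fin 2)) (LinearMap.proj 1)
    have ea : a = ArtFunLib.evT ξ.cl (LinearMap.proj (0 : Fin 2)) := (congrFun hz 0).symm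
    have eb : b = ArtFunLib.evT ξ.cl (LinearMap.proj (1 : Fin 2)) := (congrFun hz 1).symm
    rw [ea, eb, ← hadd]
    refine (hv _).trans ((Eq.trans ?_ (congrArg₂ (· + ·) (hv _) (hv _)).symm))
    rw [← Finset.sum_add_distrib]
    refine Finset.sum_congr rfl fun i _ => ?_
    rw [LinearMap.add_apply, map_add, add_smul]
  map_smul' c a := by
    obtain ⟨z, hz⟩ := (ArtFunLib.tnProj_bijective (h0 (Λ := Λ) (X := X) (x := x)) heps 1).2 ![a.val]
    induction z using Quotient.inductionOn with
    | h ξ =>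
    obtain ⟨v, hv⟩ := tau_baseChange e he P ξ
    have hs := (ArtFunLib.evT ξ.cl).map_smul c (LinearMap.proj (0 : Fin 1))
    have ea : a = ArtFunLib.evT ξ.cl (LinearMap.proj (0 : Fin 1)) := (congrFun hz 0).symm
    rw [ea, ← hs, RingHom.id_apply]
    refine (hv _).trans ((Eq.trans ?_ (congrArg (c • ·) (hv _)).symm))
    rw [Finset.smul_sum]
    refine Finset.sum_congr rfl fun i _ => ?_
    rw [LinearMap.smul_apply, smul_eq_mul, map_mul, mul_smul, algebraMap_smul]

end

/-- Affine schemes of finite type with finitely many singular points have finite-dimensional tangent space. -/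
theorem hfin_of_finite_nonsmooth [IsAffine X] [LocallyOfFiniteType x] (U : X.Opens) (hU : Smooth (U.ι ≫ x))
    (hfin : ((U : Set X)ᶜ).Finite) [TangentStr (defFunctor (Λ := Λ) X x)] :
    Hfin (defFunctor (Λ := Λ) X x) := by
  classical
  let φ : k →+* Γ(X, ⊤) := ((Scheme.ΓSpecIso (CommRingCat.of k)).inv ≫ x.appTop).hom
  letI : Algebra k Γ(X, ⊤) := φ.toAlgebra
  let e : X ≅ Spec Γ(X, ⊤) := X.isoSpec
  have he : e.hom ≫ str₀ k Γ(X, ⊤) = x := by
    show X.toSpecΓ ≫ Spec.map (CommRingCat.ofHom φ) = x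
    show X.toSpecΓ ≫ Spec.map ((Scheme.ΓSpecIso (CommRingCat.of k)).inv ≫ x.appTop) = x
    rw [Spec.map_comp, ← Category.assoc, ← Scheme.toSpecΓ_naturality]
    simp
  haveI : LocallyOfFiniteType (str₀ k Γ(X, ⊤)) := by
    rw [← MorphismProperty.cancel_left_of_respectsIso @LocallyOfFiniteType e.hom, he]
    infer_instance
  haveI : Algebra.FiniteType k Γ(X, ⊤) :=
    RingHom.finiteType_algebraMap.1 ((HasRingHomProperty.Spec_iff (P := @LocallyOfFiniteType)).1 ‹_›)
  haveI : Algebra.FinitePresentation k Γ(X, ⊤) := Algebra.FinitePresentation.of_finiteType.1 inferInstance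
  have hsub : (Algebra.smoothLocus k Γ(X, ⊤))ᶜ ⊆ e.hom '' ((U : Set X)ᶜ) := by
    intro q hq
    obtain ⟨p, rfl⟩ : ∃ p, e.hom p = q := ⟨e.inv q, by rw [← Scheme.Hom.comp_apply, e.inv_hom_id]; rfl⟩
    refine ⟨p, fun hp => hq ?_, rfl⟩
    obtain ⟨_, ⟨_, ⟨τ, rfl⟩, rfl⟩, hpτ, hτU⟩ := PrimeSpectrum.isBasis_basic_opens.exists_subset_of_mem_open
      (show e.hom p ∈ (e.inv ⁻¹' (U : Set X)) by
        show e.inv (e.hom p) ∈ U
        rw [← Scheme.Hom.comp_apply, e.hom_inv_id]; exact hp)
      (U.2.preimage e.inv.continuous)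
    let L := Localization.Away τ
    let j : Spec (CommRingCat.of L) ⟶ Spec Γ(X, ⊤) := Spec.map (CommRingCat.ofHom (algebraMap Γ(X, ⊤) L))
    haveI : IsOpenImmersion j := IsOpenImmersion.of_isLocalization τ
    have hr : Set.range (j ≫ e.inv) ⊆ Set.range U.ι := by
      rintro _ ⟨z, rfl⟩
      rw [Scheme.Opens.range_ι]
      refine hτU ?_
      exact (PrimeSpectrum.localization_away_comap_range L τ).le ⟨z, rfl⟩
    let l := IsOpenImmersion.lift U.ι (j ≫ e.inv) hr
    haveI : IsOpenImmersion (j ≫ e.inv) := inferInstance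
    haveI : IsOpenImmersion (l ≫ U.ι) := by rw [IsOpenImmersion.lift_fac]; infer_instance
    haveI : IsOpenImmersion l := IsOpenImmersion.of_comp l U.ι
    have hx : Spec.map (CommRingCat.ofHom (algebraMap k L)) = l ≫ U.ι ≫ x := by
      rw [← Category.assoc, IsOpenImmersion.lift_fac, Category.assoc, ← he, Iso.inv_hom_id_assoc]
      show _ = Spec.map _ ≫ Spec.map _
      rw [← Spec.map_comp, ← CommRingCat.ofHom_comp, ← IsScalarTower.algebraMap_eq]
    have hs : Smooth (Spec.map (CommRingCat.ofHom (algebraMap k L))) := by rw [hx]; infer_instance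
    have hsm : Algebra.Smooth k L := RingHom.smooth_algebraMap.1 ((HasRingHomProperty.Spec_iff (P := @Smooth)).1 hs)
    exact (Algebra.basicOpen_subset_smoothLocus_iff_smooth (R := k)).2 hsm hpτ
  let P₀ := Algebra.Presentation.ofFinitePresentation k Γ(X, ⊤)
  let P : Algebra.Presentation k Γ(X, ⊤) (ULift.{u} _) (ULift.{u} _) := P₀.reindex Equiv.ulift Equiv.ulift
  haveI := finite_T1 P ((hfin.image _).subset hsub)
  exact Module.Finite.of_injective (tauLin e he P) fun a b h => tau_injective e he P h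

end Groth.Agent.DefGlue3
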