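import Groth.Agent.Lib.DefAff3.Scheme
import Groth.Agent.Lib.DefAff3.Lift
import Groth.Agent.Lib.ArtFun.Cmp
import Groth.Agent.Lib.CotT3.Comp
import Groth.Agent.Lib.CI2.NLPerf
import Groth.Agent.Lib.CI2.FlatLCI
import Groth.Agent.Lib.CI2.KRStep
import Groth.Agent.Lib.CotT3.Smooth
import Groth.Agent.Lib.CotT3.Regular

/-!
# Deformations of affine local complete intersections are unobstructed
-/

set_option autoImplicit false
set_option backward.isDefEq.respectTransparency false
set_option linter.style.haveILetI false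

universe u w t

open CategoryTheory CategoryTheory.Limits AlgebraicGeometry TensorProduct

noncomputable section

namespace Groth.Agent.DefGlue3

open ArtFun ArtFunLib DefAff3

variable {Λ k : Type u} [CommRing Λ] [Field k] [Algebra Λ k] {B₀ : Type u} [CommRing B₀] [Algebra k B₀]
variable {C' C : Art Λ k} (p : C' ⟶ C) (𝒳 : DefSch (Spec (CommRingCat.of B₀)) (str₀ k B₀) C)

/-- An affine deformation extends along a semismall surjection if `T²(B₀/k, B₀ ⊗ ker p) = 0`. -/
theorem exists_lift_of_T2 (hp : Art.IsSemismallExt p) {ι σ : Type u} (P : Algebra.Presentation k B₀ ι σ)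
    (hT2 : ∀ (M : Type u) [AddCommGroup M] [Module B₀ M], Subsingleton (CotT.T2 P M)) :
    ∃ 𝒴 : DefSch (Spec (CommRingCat.of B₀)) (str₀ k B₀) C', Nonempty ((𝒴.baseChange p).Iso 𝒳) := by
  classical
  haveI : IsAffine 𝒳.total :=
    ThickAff3.isAffine_of_isPullback C.res.toRingHom C.res_surjective 𝒳.isPullback
  let B := Γ(𝒳.total, ⊤)
  let φ : CommRingCat.of C ⟶ B := Spec.preimage (𝒳.total.isoSpec.inv ≫ 𝒳.f)
  let ρ : B ⟶ CommRingCat.of B₀ := Spec.preimage (𝒳.i ≫ 𝒳.total.isoSpec.hom)
  have hφ : Spec.map φ = 𝒳.total.isoSpec.inv ≫ 𝒳.f := Spec.map_preimage _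
  have hρm : Spec.map ρ = 𝒳.i ≫ 𝒳.total.isoSpec.hom := Spec.map_preimage _
  have hpb : IsPullback (Spec.map ρ) (Spec.map (CommRingCat.ofHom (algebraMap k B₀))) (Spec.map φ)
      (Spec.map (CommRingCat.ofHom C.res.toRingHom)) :=
    IsPullback.of_iso 𝒳.isPullback (Iso.refl _) 𝒳.total.isoSpec (Iso.refl _) (Iso.refl _)
      (by simp [hρm]) (by simp) (by simp [hφ]) (by simp only [Iso.refl_hom, Category.comp_id, Category.id_comp])
  have hpo : IsPushout φ (CommRingCat.ofHom C.res.toRingHom) ρ (CommRingCat.ofHom (algebraMap k B₀)) :=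
    (show IsPullback ρ.op (CommRingCat.ofHom (algebraMap k B₀)).op φ.op (CommRingCat.ofHom C.res.toRingHom).op from
      IsPullback.of_map_of_faithful Scheme.Spec hpb).unop.flip
  obtain ⟨hρs, hρk⟩ := data_of_isPushout hpo C.res_surjective
  -- algebra structures
  letI : Algebra C' C := p.toAlgHom.toRingHom.toAlgebra
  letI : Algebra C' k := C'.res.toRingHom.toAlgebra
  letI : Algebra C k := C.res.toRingHom.toAlgebra
  haveI : IsScalarTower C' C k := IsScalarTower.of_algebraMap_eq fun a => (DFunLike.congr_fun p.res_comp a).symm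
  letI : Algebra C B := φ.hom.toAlgebra
  letI : Algebra C' B := (φ.hom.comp p.toAlgHom.toRingHom).toAlgebra
  haveI : IsScalarTower C' C B := IsScalarTower.of_algebraMap_eq fun _ => rfl
  letI : Algebra C' B₀ := ((algebraMap k B₀).comp C'.res.toRingHom).toAlgebra
  haveI : IsScalarTower C' k B₀ := IsScalarTower.of_algebraMap_eq fun _ => rfl
  letI : Algebra C B₀ := ((algebraMap k B₀).comp C.res.toRingHom).toAlgebra
  haveI : IsScalarTower C k B₀ := IsScalarTower.of_algebraMap_eq fun _ => rfl
  letI : Algebra B B₀ := ρ.hom.toAlgebra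
  haveI : IsScalarTower C B B₀ := IsScalarTower.of_algebraMap_eq fun c =>
    (congrArg (fun t : CommRingCat.of C ⟶ CommRingCat.of B₀ => t.hom c) hpo.w).symm
  haveI : IsScalarTower C' B B₀ := IsScalarTower.of_algebraMap_eq fun a => by
    show algebraMap k B₀ (C'.res a) = algebraMap B B₀ (algebraMap C B (algebraMap C' C a))
    rw [← IsScalarTower.algebraMap_apply C B B₀, IsScalarTower.algebraMap_apply C k B₀]
    exact congrArg (algebraMap k B₀) (DFunLike.congr_fun p.res_comp a).symm
  let J : Ideal C' := RingHom.ker p.toAlgHom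
  have htor : Module.IsTorsionBySet C' J (RingHom.ker C'.res.toRingHom : Set C') := fun j a => by
    refine Subtype.ext ?_
    show (a : C') * (j : C') = 0
    have h := Ideal.mul_mem_mul ((C'.mem_maximalIdeal_iff (a : C')).2 a.2) j.2
    rwa [hp.2, Submodule.mem_bot] at h
  letI : Module (C' ⧸ RingHom.ker C'.res.toRingHom) J := htor.module
  let e := (RingHom.quotientKerEquivOfSurjective (f := C'.res.toRingHom) C'.res_surjective).symm
  letI : Module k J := Module.compHom J e.toRingHom
  have hsm : ∀ (a : C') (j : J), C'.res a • j = a • j := fun a j => by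
    show e (C'.res.toRingHom a) • j = a • j
    rw [show e (C'.res.toRingHom a) = Ideal.Quotient.mk _ a from (RingEquiv.symm_apply_eq _).2 rfl]
    rfl
  haveI : IsScalarTower C' k J := ⟨fun a c j => by
    obtain ⟨c, rfl⟩ := C'.res_surjective c
    rw [hsm, Algebra.smul_def]
    show (C'.res a * C'.res c) • j = _
    rw [← map_mul, hsm, mul_smul]⟩
  haveI : Module.Flat C B := by
    have hf : Flat (Spec.map φ) := hφ ▸ inferInstance
    exact (HasRingHomProperty.Spec_iff (P := @Flat)).1 hf
  have hC : Function.Surjective (algebraMap C' C) := hp.1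
  have hres : Function.Surjective (algebraMap C' k) := C'.res_surjective
  have hmax : RingHom.ker (algebraMap C' k) = IsLocalRing.maximalIdeal C' := by
    ext a
    exact (C'.mem_maximalIdeal_iff a).symm
  have hm : IsNilpotent (RingHom.ker (algebraMap C' k)) := by
    rw [hmax, ← IsLocalRing.jacobson_eq_maximalIdeal ⊥ bot_ne_top]
    exact IsArtinianRing.isNilpotent_jacobson_bot
  have hJm : J ≤ RingHom.ker (algebraMap C' k) := hmax ▸ IsLocalRing.le_maximalIdeal (RingHom.ker_ne_top _)
  have hJnil : IsNilpotent J := by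
    obtain ⟨n, hn⟩ := hm
    exact ⟨n, le_bot_iff.1 ((Ideal.pow_right_mono hJm n).trans hn.le)⟩
  obtain ⟨Y, hY⟩ := exists_ext J hC rfl hres hm hρs hρk P (hT2 _)
  haveI := flat_of_ext (k := k) J hC rfl hρs hρk hJm hres hJnil Y hY
  let E := CommRingCat.of Y.E
  let η : CommRingCat.of C' ⟶ E := CommRingCat.ofHom (algebraMap C' Y.E)
  let q : E ⟶ B := CommRingCat.ofHom Y.proj.toRingHom
  have hq : IsPushout η (CommRingCat.ofHom p.toAlgHom.toRingHom) q φ :=
    isPushout_of_surjective η _ q φ (CommRingCat.hom_ext (RingHom.ext fun r => Y.proj.commutes r)) hp.1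
      Y.isExtension.proj_surjective (ker_proj_eq (k := k) J Y hY hρs).le
  let g : 𝒳.total ⟶ Spec E := 𝒳.total.isoSpec.hom ≫ Spec.map q
  have hgpb : IsPullback g 𝒳.f (Spec.map η) (Art.specMap p) :=
    IsPullback.of_iso (isPullback_SpecMap_of_isPushout _ _ _ _ hq) 𝒳.total.isoSpec.symm (Iso.refl _) (Iso.refl _)
      (Iso.refl _) (by simp [g]) (by simp [hφ]) (by simp) (by simp only [Iso.refl_hom, Category.comp_id, Category.id_comp])
  have hflat : Flat (Spec.map η) := by
    rw [HasRingHomProperty.Spec_iff (P := @Flat), CommRingCat.hom_ofHom, RingHom.flat_algebraMap_iff]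
    infer_instance
  let 𝒴 : DefSch (Spec (CommRingCat.of B₀)) (str₀ k B₀) C' :=
    { total := Spec E
      f := Spec.map η
      flat := hflat
      i := 𝒳.i ≫ g
      isPullback := by
        have := 𝒳.isPullback.paste_horiz hgpb
        rwa [Art.specRes_comp] at this }
  let u : (𝒴.baseChange p).Iso 𝒳 :=
    { iso := (IsPullback.of_hasPullback 𝒴.f (Art.specMap p)).isoIsPullback _ _ hgpb
      hom_f := IsPullback.isoIsPullback_hom_snd _ _ _ _
      i_hom := hgpb.hom_ext (by rw [Category.assoc, IsPullback.isoIsPullback_hom_fst, DefSch.baseChange_i_fst])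
        (by rw [Category.assoc, IsPullback.isoIsPullback_hom_snd, 𝒳.i_f]; exact DefSch.baseChange_i_f 𝒴 p) }
  exact ⟨𝒴, ⟨u⟩⟩


section lci

variable {A : Type u} {B : Type u} {ι : Type} {σ : Type t} [CommRing A] [CommRing B] [Algebra A B]

/-- Koszul-regular relations in a Noetherian polynomial ring give regular sequences locally. -/
theorem exists_regular_generators_of_isKR (P : Algebra.Presentation A B ι σ) [IsNoetherianRing P.toExtension.Ring]
    (h : LCI.IsKoszulRegularIdeal P.toExtension.ker) (p : Ideal P.toExtension.Ring) [p.IsPrime]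
    (hp : P.toExtension.ker ≤ p) :
    ∃ (n : ℕ) (a : Fin n → P.toExtension.Ring), (∀ l, a l ∈ P.toExtension.ker) ∧
        P.toExtension.ker.map (algebraMap _ (Localization.AtPrime p)) =
          Ideal.span (Set.range fun l => algebraMap _ (Localization.AtPrime p) (a l)) ∧
        CotT3.RegA (fun l => algebraMap P.toExtension.Ring (Localization.AtPrime p) (a l)) := by
  let R := P.toExtension.Ring
  obtain ⟨g, hg, l, hl, hspan⟩ := (CI2.isKR_iff _).1 h ⟨p, inferInstance⟩ hp
  obtain ⟨ks, hks, hex, hks'⟩ := CI2.exists_gens_in g hl hspan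
  let G := Localization.Away g
  let L := Localization.AtPrime p
  letI : Algebra G L := (IsLocalization.Away.lift g
    (IsLocalization.map_units L (⟨g, hg⟩ : p.primeCompl))).toAlgebra
  haveI : IsScalarTower R G L := IsScalarTower.of_algebraMap_eq fun r =>
    (IsLocalization.Away.lift_eq g _ r).symm
  haveI : IsLocalization (p.primeCompl.map (algebraMap R G)) L :=
    IsLocalization.isLocalization_of_submonoid_le G L (Submonoid.powers g) p.primeCompl
      (Submonoid.powers_le.2 hg)
  have hexL := CI2.Ex.localization (B := L) (p.primeCompl.map (algebraMap R G)) hex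
  rw [List.map_map, ← RingHom.coe_comp, ← IsScalarTower.algebraMap_eq] at hexL
  haveI : IsNoetherianRing L := IsLocalization.isNoetherianRing p.primeCompl L inferInstance
  have hreg := CI2.isWeaklyRegular_reverse_of_exact _ (fun x hx => by
    obtain ⟨y, hy, rfl⟩ := List.mem_map.1 hx
    exact (IsLocalization.AtPrime.to_map_mem_maximal_iff L p y).2 (hp (hks y hy))) (hexL 0)
  rw [← List.map_reverse] at hreg
  refine ⟨ks.reverse.length, fun i => ks.reverse.get i, fun i => hks _ (List.mem_reverse.1 (List.get_mem _ i)), ?_, ?_⟩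
  · have e := congrArg (Ideal.map (algebraMap G L)) hks'
    rw [Ideal.map_map, ← IsScalarTower.algebraMap_eq, Ideal.map_ofList, List.map_map, ← RingHom.coe_comp,
      ← IsScalarTower.algebraMap_eq] at e
    refine e.trans (congrArg Ideal.span (Set.ext fun y => ?_))
    constructor
    · intro hy
      obtain ⟨z, hz, rfl⟩ := List.mem_map.1 hy
      obtain ⟨i, rfl⟩ := List.mem_iff_get.1 (List.mem_reverse.2 hz)
      exact ⟨i, rfl⟩
    · rintro ⟨i, rfl⟩
      exact List.mem_map.2 ⟨_, List.mem_reverse.1 (List.get_mem _ i), rfl⟩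
  · rw [CotT3.regA_iff_isWeaklyRegular]
    rwa [show (List.ofFn fun i => algebraMap R L (ks.reverse.get i)) = ks.reverse.map (algebraMap R L) by
      conv_rhs => rw [← List.ofFn_get ks.reverse, List.map_ofFn]
      rfl]

/-- `T²` vanishes for a presentation with Koszul-regular ideal of relations. -/
theorem subsingleton_T2_of_isKR (P : Algebra.Presentation A B ι σ) [IsNoetherianRing P.toExtension.Ring]
    (h : LCI.IsKoszulRegularIdeal P.toExtension.ker) (M : Type u) [AddCommGroup M] [Module B M] :
    Subsingleton (CotT.T2 P M) := by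
  have hd := CotT3.d2_injective_of_local P fun p _ hp => exists_regular_generators_of_isKR P h p hp
  haveI : Module.Projective B P.toExtension.Cotangent := (CI2.finite_projective_extCotangent A B P.toExtension h).2
  obtain ⟨s, hs⟩ := Module.projective_lifting_property (CotT.toCot P) LinearMap.id (CotT3.toCot_surjective P)
  refine subsingleton_of_forall_eq 0 fun x => ?_
  obtain ⟨φ, rfl⟩ := Submodule.Quotient.mk_surjective _ x
  rw [Submodule.Quotient.mk_eq_zero]
  have hz : ∀ y, y - s (CotT.toCot P y) ∈ LinearMap.range (CotT.d2 P) := fun y => (CotT3.exact_d2_toCot P _).1 (by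
    rw [map_sub, show CotT.toCot P (s (CotT.toCot P y)) = CotT.toCot P y from LinearMap.congr_fun hs _, sub_self])
  let ret : CotT.L1 P →ₗ[B] LinearMap.range (CotT.d2 P) :=
    LinearMap.codRestrict _ (LinearMap.id - s ∘ₗ CotT.toCot P) hz
  refine ⟨φ ∘ₗ (LinearEquiv.ofInjective (CotT.d2 P) hd).symm.toLinearMap ∘ₗ ret, LinearMap.ext fun z => ?_⟩
  have : ret (CotT.d2 P z) = LinearEquiv.ofInjective (CotT.d2 P) hd z := Subtype.ext (by
    change CotT.d2 P z - s (CotT.toCot P (CotT.d2 P z)) = CotT.d2 P z
    rw [show CotT.toCot P (CotT.d2 P z) = 0 from LinearMap.congr_fun (CotT.toCot_comp_d2 P) z, map_zero, sub_zero])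
  rw [CotT.d2Star_apply, LinearMap.comp_apply, LinearMap.comp_apply, LinearMap.comp_apply, this]
  simp

end lci

section smooth

variable {Λ k : Type u} [CommRing Λ] [Field k] [Algebra Λ k]

/-- The deformation functor of an affine local complete intersection is smooth. -/
theorem isSmoothFunctor_defFunctor (A₀ : Type u) [CommRing A₀] [Algebra k A₀] (hA : LCI.IsLCI k A₀) :
    IsSmoothFunctor (defFunctor (Λ := Λ) (Spec (CommRingCat.of A₀)) (str₀ k A₀)) := by
  obtain ⟨-, n, f, hf, hKR⟩ := hA
  let G₀ : Algebra.Generators k A₀ (Fin n) := Algebra.Generators.ofSurjective (fun i => f (MvPolynomial.X i))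
    (by rw [show (fun i => f (MvPolynomial.X i)) = f ∘ MvPolynomial.X from rfl, ← MvPolynomial.aeval_unique]; exact hf)
  let P₀ : Algebra.Presentation k A₀ (Fin n) G₀.ker :=
    { toGenerators := G₀, relation := fun r => r.1, span_range_relation_eq_ker := (congrArg Ideal.span Subtype.range_coe).trans (Ideal.span_eq _) }
  have hker : P₀.toExtension.ker = RingHom.ker f.toRingHom := by
    change RingHom.ker (algebraMap G₀.toExtension.Ring A₀) = _
    ext x
    simp only [RingHom.mem_ker]
    have e : MvPolynomial.aeval (fun i => f (MvPolynomial.X i)) = f := (MvPolynomial.aeval_unique f).symm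
    exact Iff.of_eq (congrArg (· = 0) (DFunLike.congr_fun e x))
  haveI : IsNoetherianRing P₀.toExtension.Ring := inferInstanceAs (IsNoetherianRing (MvPolynomial (Fin n) k))
  have hKR₀ : LCI.IsKoszulRegularIdeal P₀.toExtension.ker := hker ▸ hKR
  let P := P₀.reindex (Equiv.ulift.{u} : ULift.{u} (Fin n) ≃ Fin n) (Equiv.refl G₀.ker)
  obtain ⟨g⟩ := CotT3.nonempty_presHom P P₀
  have hT2 : ∀ (M : Type u) [AddCommGroup M] [Module A₀ M], Subsingleton (CotT.T2 P M) := fun M _ _ => by
    haveI := subsingleton_T2_of_isKR P₀ hKR₀ M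
    exact (CotT3.T2pull_bijective M g).2.subsingleton
  intro B A μ hμ
  refine surjInduction (P := fun A B μ => Function.Surjective ((defFunctor (Spec (CommRingCat.of A₀)) (str₀ k A₀)).map μ))
    (fun A B e he => (map_bijective _ e).2) (fun A B p hp x => ?_) (fun A B C p q _ _ hp hq x => ?_) μ hμ
  · induction x using Quotient.inductionOn with
    | h 𝒳 =>
      obtain ⟨𝒴, h⟩ := exists_lift_of_T2 p 𝒳 hp.isSemismallExt P hT2
      exact ⟨𝒴.cl, Quotient.sound h⟩
  · obtain ⟨y, rfl⟩ := hq x
    obtain ⟨z, rfl⟩ := hp y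
    exact ⟨z, map_comp' _ p q z⟩

end smooth

end Groth.Agent.DefGlue3
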