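import Groth.Agent.Lib.DefGlue3.Sections
import Groth.Agent.Lib.DefAut3.Fwd
import Groth.Agent.Lib.AlgSpDescent.DeformRing
import Groth.Prelude.Def_ArtFun4
import Mathlib

/-!
# Cartesian squares and isomorphisms of deformations
-/

set_option autoImplicit false
set_option linter.style.haveILetI false
set_option backward.isDefEq.respectTransparency.types false

universe u

open CategoryTheory CategoryTheory.Limits AlgebraicGeometry TopologicalSpace

namespace Groth.Agent.DefGlue3

open ThickAff3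

/-- A closed immersion with the extended kernel on an affine cover is a base change. -/
theorem isPullback_of_ker {C D : Type u} [CommRing C] [CommRing D] {X Y : Scheme.{u}}
    {f : X ⟶ Spec (CommRingCat.of C)} {f' : Y ⟶ Spec (CommRingCat.of D)} {φ : C →+* D} {g : Y ⟶ X}
    (w : g ≫ f = f' ≫ Spec.map (CommRingCat.ofHom φ)) (hφ : Function.Surjective φ) [IsClosedImmersion g]
    (h : ∀ x : X, ∃ U : X.Opens, IsAffineOpen U ∧ x ∈ U ∧
      RingHom.ker (g.app U).hom ≤ (RingHom.ker φ).map (str f U)) :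
    IsPullback g f' f (Spec.map (CommRingCat.ofHom φ)) := by
  haveI : IsClosedImmersion (Spec.map (CommRingCat.ofHom φ)) := IsClosedImmersion.spec_of_surjective _ hφ
  haveI : IsClosedImmersion (pullback.fst f (Spec.map (CommRingCat.ofHom φ))) :=
    MorphismProperty.pullback_fst _ _ inferInstance
  choose U hU hxU hker using h
  have hcov : ⨆ x : X, U x = ⊤ := top_le_iff.1 fun x _ => Opens.mem_iSup.2 ⟨x, hxU x⟩
  have hge : ∀ {Y' : Scheme.{u}} (f'' : Y' ⟶ Spec (CommRingCat.of D)) (g' : Y' ⟶ X),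
      g' ≫ f = f'' ≫ Spec.map (CommRingCat.ofHom φ) → ∀ V : X.Opens,
      (RingHom.ker φ).map (str f V) ≤ RingHom.ker (g'.app V).hom := fun f'' g' w' V =>
    Ideal.map_le_iff_le_comap.2 fun c hc => by
      rw [Ideal.mem_comap, RingHom.mem_ker]
      exact (app_str f f'' φ g' w' V c).trans (by rw [RingHom.mem_ker.1 hc, map_zero])
  have hker' : g.ker = (pullback.fst f (Spec.map (CommRingCat.ofHom φ))).ker := by
    refine Scheme.IdealSheafData.ext_of_iSup_eq_top (fun x => ⟨U x, hU x⟩) hcov fun x => ?_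
    rw [Scheme.Hom.ker_apply, Scheme.Hom.ker_apply]
    exact le_antisymm ((hker x).trans (hge _ _ pullback.condition _))
      (((fibre_data f φ hφ (IsPullback.of_hasPullback f (Spec.map (CommRingCat.ofHom φ)))).2 ⟨U x, hU x⟩).trans
        (hge _ _ w _))
  let d : Y ⟶ pullback f (Spec.map (CommRingCat.ofHom φ)) := pullback.lift g f' w
  haveI : IsIso d := IsClosedImmersion.isIso_of_ker_eq g _ d (pullback.lift_fst _ _ _) hker'
  exact IsPullback.of_iso_pullback ⟨w⟩ (asIso d) (pullback.lift_fst _ _ _) (pullback.lift_snd _ _ _)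

variable {Λ k : Type u} [CommRing Λ] [Field k] [Algebra Λ k] {X : Scheme.{u}} {x : X ⟶ Spec (CommRingCat.of k)}
  {A B : ArtFun.Art Λ k}

open ArtFun

theorem surjective_specRes (A : Art Λ k) : Surjective (Art.specRes A) := by
  refine ⟨fun p => ⟨IsLocalRing.closedPoint k, ?_⟩⟩
  haveI := IsArtinianRing.isMaximal_of_isPrime p.asIdeal
  haveI := IsArtinianRing.isMaximal_of_isPrime (((Art.specRes A) (IsLocalRing.closedPoint k)).asIdeal)
  exact PrimeSpectrum.ext ((IsLocalRing.eq_maximalIdeal inferInstance).trans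
    (IsLocalRing.eq_maximalIdeal (I := p.asIdeal) inferInstance).symm)

instance (A : Art Λ k) : IsClosedImmersion (Art.specRes A) :=
  IsClosedImmersion.spec_of_surjective _ A.res_surjective

instance isClosedImmersion_i (ξ : DefSch X x A) : IsClosedImmersion ξ.i :=
  MorphismProperty.of_isPullback ξ.isPullback.flip (inferInstance : IsClosedImmersion (Art.specRes A))

instance surjective_i (ξ : DefSch X x A) : Surjective ξ.i := by
  haveI := surjective_specRes A
  exact MorphismProperty.of_isPullback ξ.isPullback.flip (inferInstance : Surjective (Art.specRes A))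

theorem ker_res (A : Art Λ k) : RingHom.ker A.res.toRingHom = IsLocalRing.maximalIdeal A :=
  IsLocalRing.eq_maximalIdeal (RingHom.ker_isMaximal_of_surjective _ A.res_surjective)

theorem ker_i (ξ : DefSch X x A) {W : ξ.total.Opens} (hW : IsAffineOpen W) :
    RingHom.ker (ξ.i.app W).hom = (IsLocalRing.maximalIdeal A).map (str ξ.f W) := by
  refine le_antisymm (ker_res A ▸ (fibre_data ξ.f A.res.toRingHom A.res_surjective ξ.isPullback).2 ⟨W, hW⟩) ?_
  refine Ideal.map_le_iff_le_comap.2 fun c hc => ?_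
  rw [Ideal.mem_comap, RingHom.mem_ker]
  refine (app_str ξ.f x A.res.toRingHom ξ.i ξ.isPullback.w W c).trans ?_
  rw [show A.res.toRingHom c = 0 from (ker_res A).ge hc, map_zero]

/-- A morphism of deformations over the same base is an isomorphism. -/
theorem isIso_of_hom {ξ η : DefSch X x A} (d : ξ.total ⟶ η.total) (hf : d ≫ η.f = ξ.f) (hi : ξ.i ≫ d = η.i) :
    IsIso d := by
  have hcomp : ∀ p, d (ξ.i p) = η.i p := fun p => congrArg (fun m : X ⟶ η.total => m p) hi
  have hind : Topology.IsInducing d := by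
    have hhom : IsHomeomorph ξ.i := isHomeomorph_iff_isEmbedding_surjective.2
      ⟨ξ.i.isClosedEmbedding.isEmbedding, ξ.i.surjective⟩
    let e := hhom.homeomorph
    have : (d : ξ.total → η.total) = η.i ∘ e.symm := by
      funext q
      obtain ⟨p, rfl⟩ := ξ.i.surjective q
      show _ = η.i (e.symm (e p))
      rw [hcomp, Homeomorph.symm_apply_apply]
    rw [this]
    exact η.i.isClosedEmbedding.isInducing.comp e.symm.isInducing
  have hrange : Set.range d = Set.univ := Set.eq_univ_of_forall fun q => by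
    obtain ⟨p, rfl⟩ := η.i.surjective q
    exact ⟨ξ.i p, hcomp p⟩
  haveI : IsAffineHom d := isAffineHom_of_isInducing d hind (hrange ▸ isClosed_univ)
  refine (IsZariskiLocalAtTarget.iff_of_iSup_eq_top (P := MorphismProperty.isomorphisms Scheme.{u})
    (fun U : η.total.affineOpens => U.1) (iSup_affineOpens_eq_top η.total)).2 fun U => ?_
  show IsIso (d ∣_ U.1)
  haveI : IsAffine U.1.toScheme := U.2
  haveI : IsAffine (d ⁻¹ᵁ U.1).toScheme := U.2.preimage d
  suffices MorphismProperty.isomorphisms Scheme.{u} (d ∣_ U.1) from this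
  rw [HasAffineProperty.iff_of_isAffine (P := MorphismProperty.isomorphisms Scheme.{u})]
  refine ⟨inferInstance, ?_⟩
  rw [ConcreteCategory.isIso_iff_bijective]
  refine Pinch4.appTop_restrict d U.1 (fun f => Function.Bijective f) ⟨fun f e hf => e.bijective.comp hf, fun f e hf => hf.comp e.bijective⟩ ?_
  -- bijectivity on sections
  letI := (str η.f U.1).toAlgebra
  letI := (d.app U.1).hom.toAlgebra
  letI := (str ξ.f (d ⁻¹ᵁ U.1)).toAlgebra
  have w : d ≫ η.f = ξ.f ≫ Spec.map (CommRingCat.ofHom (RingHom.id A)) := by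
    rw [hf, CommRingCat.ofHom_id, Spec.map_id, Category.comp_id]
  haveI : IsScalarTower A Γ(η.total, U.1) Γ(ξ.total, d ⁻¹ᵁ U.1) :=
    IsScalarTower.of_algebraMap_eq fun c => (app_str η.f ξ.f (RingHom.id A) d w U.1 c).symm
  haveI : Module.Flat A Γ(ξ.total, d ⁻¹ᵁ U.1) := flat_str ξ.f (U.2.preimage d)
  let π : Γ(η.total, U.1) →ₗ[Γ(η.total, U.1)] Γ(ξ.total, d ⁻¹ᵁ U.1) := Algebra.linearMap _ _
  obtain ⟨m, hm⟩ := IsArtinianRing.isNilpotent_jacobson_bot (R := A)
  rw [IsLocalRing.jacobson_eq_maximalIdeal ⊥ bot_ne_top] at hm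
  have hiU : ξ.i ⁻¹ᵁ d ⁻¹ᵁ U.1 = η.i ⁻¹ᵁ U.1 := by rw [← Scheme.Hom.comp_preimage, hi]
  have hsec : ∀ z, ξ.i.app (d ⁻¹ᵁ U.1) (d.app U.1 z) = res X hiU.le (η.i.app U.1 z) := by
    intro z
    show (d.app U.1 ≫ ξ.i.app (d ⁻¹ᵁ U.1)).hom z = _
    rw [← Scheme.Hom.comp_app]
    simp only [Scheme.Hom.congr_app hi]
    rfl
  refine AlgSpDescent.bijective_of_flat (A := A) (J := IsLocalRing.maximalIdeal A) (m := m) ?_ π ?_ ?_
  · rw [← Ideal.map_pow, hm]
    exact Ideal.map_bot
  · rintro y -
    obtain ⟨z, hz⟩ := η.i.app_surjective U.1 U.2 (res X hiU.ge (ξ.i.app (d ⁻¹ᵁ U.1) y))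
    have hk : y - π z ∈ RingHom.ker (ξ.i.app (d ⁻¹ᵁ U.1)).hom := by
      rw [RingHom.mem_ker, map_sub, sub_eq_zero]
      refine Eq.trans ?_ (hsec z).symm
      rw [hz, res_res, res]
      simp
    rw [ker_i ξ (U.2.preimage d)] at hk
    rw [← sub_add_cancel y (π z)]
    refine Submodule.add_mem _ (Submodule.mem_sup_right ?_) (Submodule.mem_sup_left ⟨z, rfl⟩)
    rw [Ideal.smul_top_eq_map, Submodule.restrictScalars_mem, Ideal.map_map, ← IsScalarTower.algebraMap_eq]
    exact hk
  · intro z hz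
    have : z ∈ RingHom.ker (η.i.app U.1).hom := by
      rw [RingHom.mem_ker]
      have h0 : ξ.i.app (d ⁻¹ᵁ U.1) (d.app U.1 z) = 0 := by
        rw [show (d.app U.1) z = π z from rfl, LinearMap.mem_ker.1 hz, map_zero]
      rw [hsec] at h0
      have := congrArg (res X hiU.ge) h0
      rw [res_res, map_zero] at this
      simpa [res] using this
    rw [ker_i η U.2] at this
    rw [smul_eq_mul, Ideal.mul_top]
    exact this

end Groth.Agent.DefGlue3
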