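import Groth.Agent.Lib.DefGlue3.Alg
import Groth.Agent.Lib.DefGlue3.Criteria
import Groth.Agent.Lib.Pinch4.Exists

/-!
# Gluing deformations along fibre products of Artinian algebras
-/

set_option autoImplicit false
set_option linter.style.haveILetI false
set_option backward.isDefEq.respectTransparency.types false

universe u

open CategoryTheory CategoryTheory.Limits AlgebraicGeometry TopologicalSpace

namespace Groth.Agent.DefGlue3

open ArtFun ThickAff3

variable {Λ k : Type u} [CommRing Λ] [Field k] [Algebra Λ k] {X : Scheme.{u}} {x : X ⟶ Spec (CommRingCat.of k)}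

/-- A morphism of deformations over a morphism of the bases. -/
structure Over' {A B : Art Λ k} (φ : A ⟶ B) (ξ : DefSch X x A) (η : DefSch X x B)
    (g : η.total ⟶ ξ.total) : Prop where
  w : g ≫ ξ.f = η.f ≫ Art.specMap φ
  hi : η.i ≫ g = ξ.i

namespace Over'

variable {A B C : Art Λ k} {φ : A ⟶ B} {ξ : DefSch X x A} {η : DefSch X x B} {g : η.total ⟶ ξ.total}

theorem bc (ξ : DefSch X x A) (φ : A ⟶ B) :
    Over' φ ξ (ξ.baseChange φ) (pullback.fst ξ.f (Art.specMap φ)) :=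
  ⟨pullback.condition, DefSch.baseChange_i_fst ξ φ⟩

theorem comp {ψ : B ⟶ C} {ζ : DefSch X x C} {g' : ζ.total ⟶ η.total} (h : Over' φ ξ η g)
    (h' : Over' ψ η ζ g') : Over' (φ ≫ ψ) ξ ζ (g' ≫ g) :=
  ⟨by rw [Category.assoc, h.w, ← Category.assoc, h'.w, Category.assoc, ← Art.specMap_comp],
    by rw [← Category.assoc, h'.hi, h.hi]⟩

theorem isoComp {η' : DefSch X x B} (h : Over' φ ξ η g) (e : η'.Iso η) : Over' φ ξ η' (e.iso.hom ≫ g) :=
  ⟨by rw [Category.assoc, h.w, ← Category.assoc, e.hom_f], by rw [← Category.assoc, e.i_hom, h.hi]⟩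

theorem compIso {ξ' : DefSch X x A} (h : Over' φ ξ η g) (e : ξ.Iso ξ') : Over' φ ξ' η (g ≫ e.iso.hom) :=
  ⟨by rw [Category.assoc, e.hom_f, h.w], by rw [← Category.assoc, h.hi, e.i_hom]⟩

/-- Morphisms of deformations are cartesian. -/
theorem isPullback (h : Over' φ ξ η g) : IsPullback g η.f ξ.f (Art.specMap φ) := by
  let d : η.total ⟶ (ξ.baseChange φ).total := pullback.lift g η.f h.w
  have hd : IsIso d := isIso_of_hom (ξ := η) (η := ξ.baseChange φ) d (pullback.lift_snd _ _ _) (by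
    apply pullback.hom_ext
    · rw [Category.assoc, pullback.lift_fst, h.hi, DefSch.baseChange_i_fst]
    · rw [Category.assoc, pullback.lift_snd, η.i_f]
      exact (DefSch.baseChange_i_f ξ φ).symm)
  exact IsPullback.of_iso_pullback ⟨h.w⟩ (asIso d) (pullback.lift_fst _ _ _) (pullback.lift_snd _ _ _)

/-- Two morphisms over the same map of bases differ by a unique isomorphism. -/
theorem exists_iso {η' : DefSch X x B} {g' : η'.total ⟶ ξ.total} (h : Over' φ ξ η g) (h' : Over' φ ξ η' g') :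
    ∃ e : η'.Iso η, e.iso.hom ≫ g = g' := by
  refine ⟨⟨h'.isPullback.isoIsPullback _ _ h.isPullback, IsPullback.isoIsPullback_hom_snd _ _ _ _, ?_⟩,
    IsPullback.isoIsPullback_hom_fst _ _ _ _⟩
  apply h.isPullback.hom_ext
  · rw [Category.assoc, IsPullback.isoIsPullback_hom_fst, h'.hi, h.hi]
  · rw [Category.assoc, IsPullback.isoIsPullback_hom_snd, η'.i_f, η.i_f]

theorem nonempty_iso_bc (h : Over' φ ξ η g) : Nonempty (η.Iso (ξ.baseChange φ)) :=
  ⟨((Over'.bc ξ φ).exists_iso h).choose⟩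

theorem cl_map (h : Over' φ ξ η g) : (defFunctor X x).map φ ξ.cl = η.cl :=
  (Quotient.sound ⟨h.nonempty_iso_bc.some.symm⟩ : (ξ.baseChange φ).cl = η.cl)

theorem isAffineHom (h : Over' φ ξ η g) : IsAffineHom g :=
  MorphismProperty.of_isPullback h.isPullback.flip (inferInstance : IsAffineHom (Art.specMap φ))

theorem isClosedImmersion (h : Over' φ ξ η g) (hφ : Function.Surjective φ) : IsClosedImmersion g :=
  MorphismProperty.of_isPullback h.isPullback.flip
    (IsClosedImmersion.spec_of_surjective (CommRingCat.ofHom φ.toAlgHom.toRingHom) hφ)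

theorem surjective (h : Over' φ ξ η g) : Function.Surjective g := fun p => by
  obtain ⟨q, rfl⟩ := ξ.i.surjective p
  exact ⟨η.i q, congrArg (fun m : X ⟶ ξ.total => m q) h.hi⟩

end Over'

theorem exists_over_of_cl {A B : Art Λ k} {φ : A ⟶ B} {ξ : DefSch X x A} {η : DefSch X x B}
    (h : (defFunctor X x).map φ ξ.cl = η.cl) : ∃ g, Over' φ ξ η g := by
  obtain ⟨e⟩ := Quotient.exact (show (ξ.baseChange φ).cl = η.cl from h)
  exact ⟨_, (Over'.bc ξ φ).isoComp e.symm⟩

variable {B A A' A'' : Art Λ k} {p' : B ⟶ A'} {p'' : B ⟶ A''} {f' : A' ⟶ A} {f'' : A'' ⟶ A}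

/-- Gluing. -/
theorem exists_glue (h : Art.IsFibreProd p' p'' f' f'') (hf : Function.Surjective f'') {ξ' : DefSch X x A'}
    {ξ'' : DefSch X x A''} {ζ : DefSch X x A} {g1 : ζ.total ⟶ ξ'.total} {g2 : ζ.total ⟶ ξ''.total}
    (h1 : Over' f' ξ' ζ g1) (h2 : Over' f'' ξ'' ζ g2) :
    ∃ (η : DefSch X x B) (a : ξ''.total ⟶ η.total) (b : ξ'.total ⟶ η.total),
      Over' p' η ξ' b ∧ Over' p'' η ξ'' a ∧ g2 ≫ a = g1 ≫ b ∧
      ∀ (η₂ : DefSch X x B) (a₂ : ξ''.total ⟶ η₂.total) (b₂ : ξ'.total ⟶ η₂.total),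
        Over' p' η₂ ξ' b₂ → Over' p'' η₂ ξ'' a₂ → g2 ≫ a₂ = g1 ≫ b₂ →
          ∃ e : η.Iso η₂, a ≫ e.iso.hom = a₂ ∧ b ≫ e.iso.hom = b₂ := by
  haveI := h2.isClosedImmersion hf
  haveI := h1.isAffineHom
  obtain ⟨P, a, b, H⟩ := Pinch4.exists_isPinch (Pinch4.cond_of_surjective (i := g2) (j := g1) h2.surjective)
  have hw0 : Art.specMap f'' ≫ Art.specMap p'' = Art.specMap f' ≫ Art.specMap p' := by
    rw [← Art.specMap_comp, ← Art.specMap_comp, h.w]
  obtain ⟨s, hsa, hsb⟩ := H.exists_desc (ξ''.f ≫ Art.specMap p'') (ξ'.f ≫ Art.specMap p') (by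
    rw [← Category.assoc, h2.w, ← Category.assoc, h1.w, Category.assoc, Category.assoc, hw0])
  letI : Algebra B A' := p'.toAlgHom.toRingHom.toAlgebra
  letI : Algebra B A'' := p''.toAlgHom.toRingHom.toAlgebra
  letI : Algebra A' A := f'.toAlgHom.toRingHom.toAlgebra
  letI : Algebra A'' A := f''.toAlgHom.toRingHom.toAlgebra
  letI : Algebra B A := (p' ≫ f').toAlgHom.toRingHom.toAlgebra
  haveI : IsScalarTower B A' A := IsScalarTower.of_algebraMap_eq fun _ => rfl
  haveI : IsScalarTower B A'' A := IsScalarTower.of_algebraMap_eq fun c => h.w_apply c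
  have hsq : EtMil.IsFibreSquare B A' A'' A := ⟨hf, fun a' a'' e => by
    obtain ⟨c, hc1, hc2⟩ := h.surj a' a'' e
    exact ⟨c, ⟨hc1, hc2⟩, fun c' hc' => h.inj _ _ (hc'.1.trans hc1.symm) (hc'.2.trans hc2.symm)⟩⟩
  have hsurjp : Function.Surjective p' := (MilnorH7.weak_of_isFibreSquare hsq).surjFst
  have key : ∀ O : P.Opens, Pinch4.Chart g2 g1 a b O →
      (str s O).Flat ∧ RingHom.ker (b.app O).hom ≤ (RingHom.ker p'.toAlgHom.toRingHom).map (str s O) := by
    intro O c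
    let WX := a ⁻¹ᵁ O
    let WY := b ⁻¹ᵁ O
    let WZ := g2 ⁻¹ᵁ a ⁻¹ᵁ O
    have heq : WZ = g1 ⁻¹ᵁ WY := by
      show g2 ⁻¹ᵁ a ⁻¹ᵁ O = g1 ⁻¹ᵁ b ⁻¹ᵁ O
      rw [← Scheme.Hom.comp_preimage, H.w, Scheme.Hom.comp_preimage]
    letI : Algebra B Γ(P, O) := (str s O).toAlgebra
    letI : Algebra A' Γ(ξ'.total, WY) := (str ξ'.f WY).toAlgebra
    letI : Algebra A'' Γ(ξ''.total, WX) := (str ξ''.f WX).toAlgebra
    letI : Algebra A Γ(ζ.total, WZ) := (str ζ.f WZ).toAlgebra
    letI : Algebra B Γ(ξ'.total, WY) := ((str ξ'.f WY).comp (algebraMap B A')).toAlgebra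
    letI : Algebra B Γ(ξ''.total, WX) := ((str ξ''.f WX).comp (algebraMap B A'')).toAlgebra
    letI : Algebra A' Γ(ζ.total, WZ) := ((str ζ.f WZ).comp (algebraMap A' A)).toAlgebra
    letI : Algebra A'' Γ(ζ.total, WZ) := ((str ζ.f WZ).comp (algebraMap A'' A)).toAlgebra
    haveI : IsScalarTower B A' Γ(ξ'.total, WY) := IsScalarTower.of_algebraMap_eq fun _ => rfl
    haveI : IsScalarTower B A'' Γ(ξ''.total, WX) := IsScalarTower.of_algebraMap_eq fun _ => rfl
    haveI : IsScalarTower A' A Γ(ζ.total, WZ) := IsScalarTower.of_algebraMap_eq fun _ => rfl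
    haveI : IsScalarTower A'' A Γ(ζ.total, WZ) := IsScalarTower.of_algebraMap_eq fun _ => rfl
    haveI : Module.Flat A' Γ(ξ'.total, WY) := flat_str ξ'.f c.affY
    haveI : Module.Flat A'' Γ(ξ''.total, WX) := flat_str ξ''.f c.affX
    let q : Γ(ξ'.total, WY) →ₗ[A'] Γ(ζ.total, WZ) := AlgHom.toLinearMap
      { (g1.appLE WY WZ c.le).hom with
        commutes' := fun r => appLE_str ξ'.f ζ.f f'.toAlgHom.toRingHom g1 h1.w WY WZ c.le r }
    let p : Γ(ξ''.total, WX) →ₗ[A''] Γ(ζ.total, WZ) := AlgHom.toLinearMap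
      { (g2.app WX).hom with
        commutes' := fun r => app_str ξ''.f ζ.f f''.toAlgHom.toRingHom g2 h2.w WX r }
    let α : Γ(P, O) →ₐ[B] Γ(ξ'.total, WY) :=
      { (b.app O).hom with commutes' := fun r => app_str s ξ'.f p'.toAlgHom.toRingHom b hsb O r }
    let β : Γ(P, O) →ₐ[B] Γ(ξ''.total, WX) :=
      { (a.app O).hom with commutes' := fun r => app_str s ξ''.f p''.toAlgHom.toRingHom a hsa O r }
    have hq : IsBaseChange A q := isBaseChange h1.isPullback c.affY heq rfl (fun _ _ => rfl) (fun _ _ => rfl) q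
      fun _ => rfl
    have hp : IsBaseChange A p := isBaseChange h2.isPullback c.affX (V := WZ) rfl rfl (fun _ _ => rfl)
      (fun _ _ => rfl) p fun z => by
        show g2.app WX z = g2.appLE WX WZ _ z
        rw [Scheme.Hom.app_eq_appLE]
    obtain ⟨hflat, hαs, hker⟩ := pair_glue hsq hq hp α.toLinearMap β.toLinearMap c.ferrand.comm c.ferrand.exist
      c.ferrand.ext
    refine ⟨hflat, fun z hz => ?_⟩
    have := hker z hz
    rw [Ideal.smul_top_eq_map] at this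
    exact this
  have hcl : IsClosedImmersion b := H.isClosedImmersion_b
  have hflat : Flat s := flat_of_str s fun z => by
    obtain ⟨O, hz, c⟩ := H.cover z
    exact ⟨O, c.affO, hz, (key O c).1⟩
  have hpb : IsPullback b ξ'.f s (Art.specMap p') := isPullback_of_ker hsb hsurjp fun z => by
    obtain ⟨O, hz, c⟩ := H.cover z
    exact ⟨O, c.affO, hz, (key O c).2⟩
  let η : DefSch X x B := ⟨P, s, hflat, ξ'.i ≫ b, by
    have := ξ'.isPullback.paste_horiz hpb
    rwa [Art.specRes_comp] at this⟩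
  refine ⟨η, a, b, ⟨hsb, rfl⟩, ⟨hsa, ?_⟩, H.w, fun η₂ a₂ b₂ hb ha hw => ?_⟩
  · show ξ''.i ≫ a = ξ'.i ≫ b
    rw [← h2.hi, ← h1.hi, Category.assoc, Category.assoc, H.w]
  obtain ⟨γ, hγa, hγb⟩ := H.exists_desc a₂ b₂ hw
  have hf : γ ≫ η₂.f = s := H.hom_ext (by rw [← Category.assoc, hγa, ha.w, hsa])
    (by rw [← Category.assoc, hγb, hb.w, hsb])
  have hi : η.i ≫ γ = η₂.i := by
    show (ξ'.i ≫ b) ≫ γ = η₂.i
    rw [Category.assoc, hγb, hb.hi]
  haveI : IsIso γ := isIso_of_hom (ξ := η) (η := η₂) γ hf hi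
  exact ⟨⟨asIso γ, hf, hi⟩, hγa, hγb⟩

end Groth.Agent.DefGlue3
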