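import Groth.Agent.Lib.Pinch4.BaseChange
import Groth.Agent.Lib.ThickAff3.Gamma
import Mathlib

/-!
# Sections of schemes over affine bases
-/

set_option autoImplicit false
set_option linter.style.haveILetI false
set_option backward.isDefEq.respectTransparency.types false

universe u

open CategoryTheory CategoryTheory.Limits AlgebraicGeometry TensorProduct

namespace Groth.Agent.DefGlue3

open ThickAff3

variable {C D : Type u} [CommRing C] [CommRing D] {X Y : Scheme.{u}}
  (f : X ⟶ Spec (CommRingCat.of C)) (f' : Y ⟶ Spec (CommRingCat.of D)) (φ : C →+* D) (g : Y ⟶ X)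

/-- Compatibility of coefficient maps. -/
theorem appLE_str (w : g ≫ f = f' ≫ Spec.map (CommRingCat.ofHom φ)) (U : X.Opens) (V : Y.Opens)
    (e : V ≤ g ⁻¹ᵁ U) (c : C) : g.appLE U V e (str f U c) = str f' V (φ c) := by
  have h : ((Scheme.ΓSpecIso (CommRingCat.of C)).inv ≫ f.appLE ⊤ U le_top) ≫ g.appLE U V e =
      CommRingCat.ofHom φ ≫ (Scheme.ΓSpecIso (CommRingCat.of D)).inv ≫ f'.appLE ⊤ V le_top := by
    rw [Category.assoc, Scheme.Hom.appLE_comp_appLE, Scheme.ΓSpecIso_inv_naturality_assoc]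
    refine congrArg ((Scheme.ΓSpecIso (CommRingCat.of C)).inv ≫ ·) ?_
    simp only [w]
    rw [← Scheme.Hom.appLE_comp_appLE f' (Spec.map (CommRingCat.ofHom φ)) ⊤ ⊤ V le_top le_top]
    simp [Scheme.Hom.appLE, Scheme.Hom.appTop]
  exact congrArg (fun k => k.hom c) h

theorem app_str (w : g ≫ f = f' ≫ Spec.map (CommRingCat.ofHom φ)) (U : X.Opens) (c : C) :
    g.app U (str f U c) = str f' (g ⁻¹ᵁ U) (φ c) := by
  rw [Scheme.Hom.app_eq_appLE]
  exact appLE_str f f' φ g w U _ le_rfl c

theorem flat_str [Flat f] {U : X.Opens} (hU : IsAffineOpen U) : (str f U).Flat :=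
  (RingHom.Flat.of_bijective (ConcreteCategory.bijective_of_isIso (Scheme.ΓSpecIso (CommRingCat.of C)).inv)).comp
    (HasRingHomProperty.appLE @Flat f ‹_› ⟨⊤, isAffineOpen_top _⟩ ⟨U, hU⟩ le_top)

/-- Flatness over an affine base from flatness of the coefficient maps on an affine cover. -/
theorem flat_of_str (h : ∀ x : X, ∃ U : X.Opens, IsAffineOpen U ∧ x ∈ U ∧ (str f U).Flat) : Flat f := by
  refine (HasRingHomProperty.iff_exists_appLE (P := @Flat)
    (RingHom.Flat.stableUnderComposition.stableUnderCompositionWithLocalizationAway RingHom.Flat.holdsForLocalizationAway).1).2 ?_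
  intro x
  obtain ⟨U, hU, hx, hf⟩ := h x
  refine ⟨⟨⊤, isAffineOpen_top _⟩, ⟨U, hU⟩, hx, le_top, ?_⟩
  have e : f.appLE ⊤ U le_top = (Scheme.ΓSpecIso (CommRingCat.of C)).hom ≫ CommRingCat.ofHom (str f U) := by
    show _ = _ ≫ (Scheme.ΓSpecIso (CommRingCat.of C)).inv ≫ f.appLE ⊤ U le_top
    rw [Iso.hom_inv_id_assoc]
  rw [e, CommRingCat.hom_comp]
  exact (RingHom.Flat.of_bijective (ConcreteCategory.bijective_of_isIso _)).comp hf

section cartesian

variable {f f' φ g}

/-- Sections of a base change over affine bases. -/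
theorem isBaseChange (H : IsPullback g f' f (Spec.map (CommRingCat.ofHom φ))) {U : X.Opens} (hU : IsAffineOpen U)
    {V : Y.Opens} (hV : V = g ⁻¹ᵁ U) [Algebra C D] (hφ : algebraMap C D = φ)
    [Module C Γ(X, U)] (hN : ∀ (c : C) (x : Γ(X, U)), c • x = str f U c * x)
    [Module D Γ(Y, V)] (hQ : ∀ (d : D) (x : Γ(Y, V)), d • x = str f' V d * x)
    [Module C Γ(Y, V)] [IsScalarTower C D Γ(Y, V)]
    (q : Γ(X, U) →ₗ[C] Γ(Y, V)) (hq : ∀ x, q x = g.appLE U V hV.le x) : IsBaseChange D q := by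
  have hUY : V = g ⁻¹ᵁ U ⊓ f' ⁻¹ᵁ (⊤ : (Spec (CommRingCat.of D)).Opens) := by simp [hV]
  have hpo := FlatH4.isPushout_sections H (US := ⊤) (UT := ⊤) le_top (UX := U) le_top (UY := V) hUY
    (isAffineOpen_top _) (isAffineOpen_top _) hU
  have hbot : (Spec.map (CommRingCat.ofHom φ)).appLE ⊤ ⊤ le_top =
      (Scheme.ΓSpecIso (CommRingCat.of C)).hom ≫ CommRingCat.ofHom φ ≫
        (Scheme.ΓSpecIso (CommRingCat.of D)).inv := by
    rw [← Scheme.ΓSpecIso_naturality_assoc, Iso.hom_inv_id, Category.comp_id]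
    simp [Scheme.Hom.appLE, Scheme.Hom.appTop]
  have hpo' : IsPushout (CommRingCat.ofHom (str f U)) (CommRingCat.ofHom φ) (g.appLE U V hV.le)
      (CommRingCat.ofHom (str f' V)) := by
    refine hpo.of_iso (Scheme.ΓSpecIso (CommRingCat.of C)) (Iso.refl _) (Scheme.ΓSpecIso (CommRingCat.of D))
      (Iso.refl _) ?_ ?_ ?_ ?_
    · simp only [Iso.refl_hom, Category.comp_id]
      show _ = _ ≫ (Scheme.ΓSpecIso (CommRingCat.of C)).inv ≫ _
      rw [Iso.hom_inv_id_assoc]
    · rw [hbot]; simp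
    · simp
    · simp only [Iso.refl_hom, Category.comp_id]
      show _ = _ ≫ (Scheme.ΓSpecIso (CommRingCat.of D)).inv ≫ _
      rw [Iso.hom_inv_id_assoc]
  rename_i iCD iN iQD iQC _
  obtain rfl : iCD = φ.toAlgebra := Algebra.algebra_ext _ _ fun c => RingHom.congr_fun hφ c
  obtain ⟨e, he, hel⟩ := Pinch4.exists_bij hpo'.flip
  obtain rfl : iN = ((str f U).toAlgebra).toModule := Module.ext' _ _ fun c x => hN c x
  letI := (str f U).toAlgebra
  letI := φ.toAlgebra
  have hG : ∀ z, q.liftBaseChange D z = e z := by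
    intro z
    induction z using TensorProduct.induction_on with
    | zero => simp
    | tmul d x => rw [LinearMap.liftBaseChange_tmul, hel, hQ, hq]; rfl
    | add x y hx hy => rw [map_add, map_add, hx, hy]
  exact IsBaseChange.of_equiv (LinearEquiv.ofBijective (q.liftBaseChange D)
    (by simpa [funext hG] using he)) fun x => by simp

end cartesian

end Groth.Agent.DefGlue3
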