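import Groth.Agent.Lib.MilnorSqH7.Glue
import Mathlib.RingTheory.TensorProduct.IsBaseChangeRightExact
import Mathlib

/-!
# Glued modules over a Milnor square, in universal form
-/

set_option autoImplicit false

universe u

open TensorProduct

namespace Groth.Agent.DefGlue3

variable {B A' A'' A : Type u} [CommRing B] [CommRing A'] [CommRing A''] [CommRing A]
  [Algebra B A'] [Algebra B A''] [Algebra A' A] [Algebra A'' A] [Algebra B A]
  [IsScalarTower B A' A] [IsScalarTower B A'' A]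
  {N M Q L : Type u} [AddCommGroup N] [Module A' N] [Module B N] [IsScalarTower B A' N]
  [AddCommGroup M] [Module A'' M] [Module B M] [IsScalarTower B A'' M]
  [AddCommGroup Q] [Module A Q] [Module A' Q] [IsScalarTower A' A Q] [Module A'' Q] [IsScalarTower A'' A Q]
  [AddCommGroup L] [Module B L]

/-- A fibre product of flat modules with the same base change to the corner is flat, and its first
projection is the base change. -/
theorem pair_glue (h : EtMil.IsFibreSquare B A' A'' A) {q : N →ₗ[A'] Q} (hq : IsBaseChange A q)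
    {p : M →ₗ[A''] Q} (hp : IsBaseChange A p) (α : L →ₗ[B] N) (β : L →ₗ[B] M)
    (hc : ∀ l, q (α l) = p (β l)) (hex : ∀ n m, q n = p m → ∃ l, α l = n ∧ β l = m)
    (hext : ∀ l l', α l = α l' → β l = β l' → l = l') [Module.Flat A' N] [Module.Flat A'' M] :
    Module.Flat B L ∧ Function.Surjective α ∧
      ∀ l, α l = 0 → l ∈ RingHom.ker (algebraMap B A') • (⊤ : Submodule B L) := by
  let φ : A ⊗[A'] N ≃ₗ[A] A ⊗[A''] M := hq.equiv ≪≫ₗ hp.equiv.symm
  have hφ : ∀ n m, φ ((1 : A) ⊗ₜ[A'] n) = (1 : A) ⊗ₜ[A''] m ↔ q n = p m := by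
    intro n m
    show hp.equiv.symm (hq.equiv ((1 : A) ⊗ₜ[A'] n)) = _ ↔ _
    rw [LinearEquiv.symm_apply_eq, hq.equiv_tmul, hp.equiv_tmul, one_smul, one_smul]
  let c : L →ₗ[B] ↥(EtMil.glue B φ) := (α.prod β).codRestrict _ fun l => (hφ _ _).2 (hc l)
  have hcb : Function.Bijective c := by
    refine ⟨fun l l' e => ?_, fun x => ?_⟩
    · exact hext l l' (congrArg (fun y => y.1.1) e) (congrArg (fun y => y.1.2) e)
    · obtain ⟨l, h1, h2⟩ := hex x.1.1 x.1.2 ((hφ _ _).1 x.2)
      exact ⟨l, Subtype.ext (Prod.ext h1 h2)⟩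
  let e := LinearEquiv.ofBijective c hcb
  haveI := MilnorH7.glue_flat φ h
  have hw := MilnorH7.weak_of_isFibreSquare h
  refine ⟨Module.Flat.of_linearEquiv e, fun n => ?_, fun l hl => ?_⟩
  · obtain ⟨x, hx⟩ := MilnorH7.fst_surjective (B' := B) φ h.1 n
    obtain ⟨l, rfl⟩ := hcb.2 x
    exact ⟨l, hx⟩
  · have hmem := MilnorH7.mem_smul_of_fst_eq_zero φ hw ⊤ (by
      simpa using MilnorH7.span_snd_eq_top (B' := B) φ h.1) (x := c l) hl
    have : (⊤ : Submodule B ↥(EtMil.glue B φ)) = Submodule.map c ⊤ := by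
      rw [Submodule.map_top, LinearMap.range_eq_top.2 hcb.2]
    rw [this, ← Submodule.map_smul''] at hmem
    obtain ⟨l', hl', e'⟩ := hmem
    rwa [← hcb.1 e']

end Groth.Agent.DefGlue3
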