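import Groth.Agent.Lib.DefGlue3.Glue
import Groth.Agent.Lib.ArtFun.Cmp
import Groth.Agent.Lib.ArtFun.Basic
import Mathlib.AlgebraicGeometry.Morphisms.Flat

/-!
# The deformation functor: conditions of the hull criterion, and automorphisms
-/

set_option autoImplicit false
set_option linter.style.haveILetI false

universe u

open CategoryTheory CategoryTheory.Limits AlgebraicGeometry

namespace Groth.Agent.DefGlue3

open ArtFun

variable {Λ k : Type u} [CommRing Λ] [Field k] [Algebra Λ k] {X : Scheme.{u}} {x : X ⟶ Spec (CommRingCat.of k)}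

instance isIso_i (ξ : DefSch X x (Art.base Λ k)) : IsIso ξ.i :=
  MorphismProperty.of_isPullback (P := MorphismProperty.isomorphisms Scheme.{u}) ξ.isPullback.flip
    (inferInstanceAs (IsIso (Art.specRes (Art.base Λ k))))

theorem isIso_baseChange_ext {A : Art Λ k} {ξ η : DefSch X x A} (e e' : ξ.Iso η) (h : e.iso.hom = e'.iso.hom) :
    e = e' := by
  obtain ⟨i, _, _⟩ := e
  obtain ⟨i', _, _⟩ := e'
  obtain rfl : i = i' := CategoryTheory.Iso.ext h
  rfl

theorem h0 : H0 (defFunctor (Λ := Λ) X x) := by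
  haveI : Flat x := by
    haveI : Subsingleton (Spec (CommRingCat.of k)) := inferInstanceAs (Subsingleton (PrimeSpectrum k))
    infer_instance
  refine ⟨⟨(DefSch.self X x ‹_›).cl⟩, ⟨fun a b => ?_⟩⟩
  induction a using Quotient.inductionOn with
  | h ξ =>
  induction b using Quotient.inductionOn with
  | h η =>
  refine Quotient.sound ⟨⟨(asIso ξ.i).symm ≪≫ asIso η.i, ?_, by simp⟩⟩
  rw [← cancel_epi ξ.i]
  simp [ξ.i_f, η.i_f]

variable {B A A' A'' : Art Λ k} {p' : B ⟶ A'} {p'' : B ⟶ A''} {f' : A' ⟶ A} {f'' : A'' ⟶ A}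

theorem cmp_surjective (h : Art.IsFibreProd p' p'' f' f'') (hf : Function.Surjective f'') :
    Function.Surjective (cmp (defFunctor X x) h) := by
  rintro ⟨⟨a, b⟩, hab⟩
  induction a using Quotient.inductionOn with
  | h ξ' =>
  induction b using Quotient.inductionOn with
  | h ξ'' =>
  obtain ⟨g2, hg2⟩ := exists_over_of_cl (φ := f'') (ξ := ξ'') (η := ξ'.baseChange f')
    (show (defFunctor X x).map f'' ξ''.cl = (ξ'.baseChange f').cl from hab.symm)
  obtain ⟨η, a, b, hb, ha, -, -⟩ := exists_glue h hf (Over'.bc ξ' f') hg2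
  exact ⟨η.cl, FibProd.ext hb.cl_map ha.cl_map⟩

/-- Injectivity of the comparison map, given that automorphisms lift along `f''`. -/
theorem cmp_injective (h : Art.IsFibreProd p' p'' f' f'') (hf : Function.Surjective f'')
    (haut : ∀ (ξ'' : DefSch X x A'') (ζ : DefSch X x A) (g : ζ.total ⟶ ξ''.total), Over' f'' ξ'' ζ g →
      ∀ e : ζ.Iso ζ, ∃ d : ξ''.Iso ξ'', g ≫ d.iso.hom = e.iso.hom ≫ g) :
    Function.Injective (cmp (defFunctor X x) h) := by
  intro a b hab
  induction a using Quotient.inductionOn with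
  | h η₁ =>
  induction b using Quotient.inductionOn with
  | h η₂ =>
  have e1 : (defFunctor X x).map p' η₁.cl = (defFunctor X x).map p' η₂.cl := congrArg (fun z => z.1.1) hab
  have e2 : (defFunctor X x).map p'' η₁.cl = (defFunctor X x).map p'' η₂.cl := congrArg (fun z => z.1.2) hab
  have hb₁ := Over'.bc η₁ p'
  have ha₁ := Over'.bc η₁ p''
  obtain ⟨b₂, hb₂⟩ := exists_over_of_cl (ξ := η₂) (η := η₁.baseChange p') (e1.symm.trans hb₁.cl_map)
  obtain ⟨a₂, ha₂⟩ := exists_over_of_cl (ξ := η₂) (η := η₁.baseChange p'') (e2.symm.trans ha₁.cl_map)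
  let ζ := (η₁.baseChange p').baseChange f'
  have h1 := Over'.bc (η₁.baseChange p') f'
  have h' : Over' (p' ≫ f') η₁ ζ _ := hb₁.comp h1
  obtain ⟨g2, hg2⟩ := exists_over_of_cl (φ := f'') (ξ := η₁.baseChange p'') (η := ζ) (by
    rw [← h'.cl_map, ← ha₁.cl_map, h.w, Functor.map_comp]
    rfl)
  -- correct `g2` to be compatible with the tautological maps
  have h2'' : Over' (p' ≫ f') η₁ ζ _ := h.w ▸ ha₁.comp hg2
  obtain ⟨e, he⟩ := h2''.exists_iso h'
  have hg := hg2.isoComp e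
  have hc2 : Over' (p' ≫ f') η₂ ζ _ := h.w ▸ ha₂.comp hg
  obtain ⟨d0, hd0⟩ := hc2.exists_iso (hb₂.comp h1)
  obtain ⟨d, hd⟩ := haut _ _ _ hg d0
  obtain ⟨η, a, b, -, -, -, hu⟩ := exists_glue h hf h1 hg
  obtain ⟨E1, -, -⟩ := hu η₁ _ _ hb₁ ha₁ (by rw [Category.assoc]; exact he)
  obtain ⟨E2, -, -⟩ := hu η₂ _ _ hb₂ (ha₂.isoComp d) (by
    rw [← Category.assoc (e.iso.hom ≫ g2), hd, Category.assoc]; exact hd0)
  exact Quotient.sound ⟨E1.symm.trans E2⟩

theorem lifts_of_base (ξ'' : DefSch X x A'') (ζ : DefSch X x (Art.base Λ k)) (g : ζ.total ⟶ ξ''.total)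
    (e : ζ.Iso ζ) : ∃ d : ξ''.Iso ξ'', g ≫ d.iso.hom = e.iso.hom ≫ g := by
  refine ⟨DefSch.Iso.refl ξ'', ?_⟩
  have : e.iso.hom = 𝟙 ζ.total := by rw [← cancel_epi ζ.i, e.i_hom, Category.comp_id]
  rw [this, Category.id_comp]
  exact Category.comp_id g

theorem heps : Heps (defFunctor (Λ := Λ) X x) := fun _ _ _ _ h =>
  ⟨cmp_injective h (Art.dual Λ k).res_surjective fun ξ ζ g _ e => lifts_of_base ξ ζ g e,
    cmp_surjective h (Art.dual Λ k).res_surjective⟩

theorem s1 : S1 (defFunctor (Λ := Λ) X x) := fun _ _ _ _ _ _ _ _ h hs => cmp_surjective h hs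

/-- Surjectivity of base change on automorphisms in terms of morphisms. -/
theorem lifts_of_surjective {A' A : Art Λ k} (p : A' ⟶ A)
    (hp : ∀ ξ' : DefSch X x A', Function.Surjective (fun e : ξ'.Iso ξ' => e.baseChange p))
    (ξ' : DefSch X x A') (ζ : DefSch X x A) (g : ζ.total ⟶ ξ'.total) (hg : Over' p ξ' ζ g) (e : ζ.Iso ζ) :
    ∃ d : ξ'.Iso ξ', g ≫ d.iso.hom = e.iso.hom ≫ g := by
  obtain ⟨E, hE⟩ := (Over'.bc ξ' p).exists_iso hg
  obtain ⟨d, hd⟩ := hp ξ' ((E.symm.trans e).trans E)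
  refine ⟨d, ?_⟩
  have h1 : DefSch.pullMap d.iso.hom d.hom_f p = (E.iso.inv ≫ e.iso.hom) ≫ E.iso.hom :=
    congrArg (fun c => c.iso.hom) hd
  have h2 := congrArg (· ≫ pullback.fst ξ'.f (Art.specMap p)) h1
  rw [DefSch.pullMap_fst] at h2
  simp only [Category.assoc, hE] at h2
  rw [← hE, Category.assoc, h2, Iso.hom_inv_id_assoc, hE]

/-- Automorphisms lift along a surjection along which the comparison map is injective. -/
theorem surjective_baseChange {A' A : Art Λ k} (p : A' ⟶ A) (hs : Function.Surjective p)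
    (hinj : ∀ ⦃B : Art Λ k⦄ (p₁ p₂ : B ⟶ A') (h : Art.IsFibreProd p₁ p₂ p p),
      Function.Injective (cmp (defFunctor X x) h))
    (ξ' : DefSch X x A') : Function.Surjective (fun e : ξ'.Iso ξ' => e.baseChange p) := by
  intro δ
  obtain ⟨B, p₁, p₂, h⟩ := ArtFunLib.exists_isFibreProd p p hs
  have hg := Over'.bc ξ' p
  obtain ⟨η, a, b, hb, ha, hw, -⟩ := exists_glue h hs (hg.isoComp δ) hg
  obtain ⟨η₀, a₀, b₀, hb₀, ha₀, hw₀, -⟩ := exists_glue h hs hg hg
  obtain ⟨Φ⟩ := Quotient.exact (hinj p₁ p₂ h (a₁ := η.cl) (a₂ := η₀.cl)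
    (FibProd.ext (hb.cl_map.trans hb₀.cl_map.symm) (ha.cl_map.trans ha₀.cl_map.symm)))
  obtain ⟨d₁, hd₁⟩ := hb₀.exists_iso (hb.compIso Φ)
  obtain ⟨d₂, hd₂⟩ := ha₀.exists_iso (ha.compIso Φ)
  refine ⟨d₂.trans d₁.symm, ?_⟩
  refine isIso_baseChange_ext _ _ ?_
  have hcart : Over' (p₁ ≫ p) η₀ (ξ'.baseChange p) _ := hb₀.comp hg
  have k1 : δ.iso.hom ≫ pullback.fst _ _ ≫ b ≫ Φ.iso.hom = pullback.fst _ _ ≫ a ≫ Φ.iso.hom := by
    rw [← Category.assoc (pullback.fst _ _) a, hw]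
    simp only [Category.assoc]
  rw [← hd₁, ← hd₂] at k1
  have k2 : (δ.iso.hom ≫ (d₁.baseChange p).iso.hom) ≫ pullback.fst _ _ ≫ b₀ =
      (d₂.baseChange p).iso.hom ≫ pullback.fst _ _ ≫ b₀ := by
    rw [show (d₂.baseChange p).iso.hom ≫ pullback.fst _ _ ≫ b₀ = (d₂.baseChange p).iso.hom ≫ pullback.fst _ _ ≫ a₀
      from congrArg (_ ≫ ·) hw₀.symm]
    simp only [DefSch.Iso.baseChange, Category.assoc]
    rw [pullback.lift_fst_assoc, pullback.lift_fst_assoc]
    simp only [Category.assoc]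
    exact k1
  have k3 : δ.iso.hom ≫ (d₁.baseChange p).iso.hom = (d₂.baseChange p).iso.hom :=
    hcart.isPullback.hom_ext k2 (by
      rw [Category.assoc]
      exact ((congrArg (δ.iso.hom ≫ ·) (d₁.baseChange p).hom_f).trans δ.hom_f).trans
        (d₂.baseChange p).hom_f.symm)
  have k4 : ((d₂.trans d₁.symm).baseChange p).iso.hom ≫ (d₁.baseChange p).iso.hom =
      (d₂.baseChange p).iso.hom := by
    apply pullback.hom_ext
    · simp [DefSch.Iso.baseChange, DefSch.Iso.trans, DefSch.Iso.symm]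
      rw [pullback.lift_fst_assoc]
      simp
    · simp [DefSch.Iso.baseChange, DefSch.Iso.trans, DefSch.Iso.symm]
  exact (cancel_mono (d₁.baseChange p).iso.hom).1 (k4.trans k3.symm)

end Groth.Agent.DefGlue3
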